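import Groth.Agent.AlgSpDM.Filtration
import Groth.Agent.AlgSpMor.Glue
import Groth.Agent.AlgSpLib.EtaleSmoothLocal
import Groth.Agent.AlgSpLib.LocalBaseTop
import Groth.Agent.AlgSpDec.LimAffineStage
import Groth.Agent.AlgSpDec.LimDescentRep
import Groth.Agent.LimPresLib.ImmStage
import Groth.Prelude.Def_AlgSpSub

/-!
# Induction over elementary distinguished squares

Criterion for elementary distinguished squares by geometric lifts, and induction along the compact opens
of a quasi-compact quasi-separated space.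
-/

set_option autoImplicit false
set_option backward.isDefEq.respectTransparency false
set_option backward.isDefEq.respectTransparency.types false

universe u

open CategoryTheory CategoryTheory.Limits AlgebraicGeometry AlgSp Groth.Agent.AlgSpLib Groth.Agent.AlgSpPts

namespace Groth.Agent.AlgSpInd

open Groth.Agent.AlgSpMor (opOver opι isReducedSp_yon)
open Groth.Agent.LimPresLib (repWith_of_comp_mono)
open Groth.Agent.AlgSpDec (mono_of_openImm isOpen_range_openImm injective_points_map_of_mono)

variable {S : Scheme.{u}} {W X U : Sp S} {V : Over S}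

theorem range_map_yon (f : (yon S).obj V ⟶ W) : Set.range (Points.map f) = Set.range (Points.ofPt f) := by
  rw [← (Points.schemeHomeo V).surjective.range_comp (Points.map f)]
  exact congrArg Set.range (funext fun v => (Points.ofPt_eq_map_ofScheme f v).symm)

theorem isEmbedding_map_openImm (hX : IsAlgSpace X) {j : U ⟶ X} (hj : RepWith @IsOpenImmersion j) :
    Topology.IsEmbedding (Points.map j) :=
  isEmbedding_map hX (repWith_mono (fun _ _ h hh => by
    have : IsOpenImmersion h := hh
    exact inferInstanceAs (IsImmersion h)) _ hj)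

theorem isQuasiCompactSp_of_isCompact_range (hU : IsAlgSpace U) (hX : IsAlgSpace X) {j : U ⟶ X}
    (hj : RepWith @IsOpenImmersion j) (hc : IsCompact (Set.range (Points.map j))) : IsQuasiCompactSp U := by
  have : CompactSpace (Points U) :=
    ⟨(isEmbedding_map_openImm hX hj).isCompact_iff.2 (by rwa [Set.image_univ])⟩
  exact isQuasiCompactSp_of_compactSpace hU

theorem isCompact_range_of_qc (h : IsQuasiCompactSp U) (j : U ⟶ X) : IsCompact (Set.range (Points.map j)) :=
  have := compactSpace_points h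
  isCompact_range (Points.continuous_map _)

theorem isQuasiCompactSp_of_iso (hW : IsAlgSpace W) (e : U ≅ W) (h : IsQuasiCompactSp U) : IsQuasiCompactSp W := by
  have := compactSpace_points h
  have hs : Function.Surjective (Points.map e.hom) := fun x => ⟨Points.map e.inv x, by
    rw [← Points.map_comp, e.inv_hom_id]; exact Points.map_id x⟩
  have : CompactSpace (Points W) := hs.compactSpace (Points.continuous_map _)
  exact isQuasiCompactSp_of_compactSpace hW

theorem isQuasiSeparatedSp_of_openImm {j : U ⟶ X} (hj : RepWith @IsOpenImmersion j)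
    (hX : IsQuasiSeparatedSp X) : IsQuasiSeparatedSp U := by
  rw [isQuasiSeparatedSp_iff_mor] at hX ⊢
  rw [(isTerminalYon S).hom_ext ((isTerminalYon S).from U) (j ≫ (isTerminalYon S).from X)]
  exact isQuasiSeparatedMor_comp (AlgSpDec.isQuasiSeparatedMor_of_isSeparatedMor (isSeparatedMor_of_repWith
    (repWith_mono (fun _ _ g (_ : IsOpenImmersion g) => (inferInstance : IsSeparated g)) _ hj))) hX

/-- Geometric points lying in `E` have at most one lift along `f`. -/
def UniqLifts (f : (yon S).obj V ⟶ W) (E : Set (Points W)) : Prop :=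
  ∀ (Ω : Type u) [Field Ω] [IsAlgClosed Ω] (str : Spec (CommRingCat.of Ω) ⟶ S) (l₁ l₂ : Over.mk str ⟶ V),
    (yon S).map l₁ ≫ f = (yon S).map l₂ ≫ f →
      Points.ofPt ((yon S).map l₁ ≫ f) (IsLocalRing.closedPoint Ω) ∈ E → l₁ = l₂

theorem uniqLifts_of_mono (f : (yon S).obj V ⟶ W) [Mono f] (E : Set (Points W)) : UniqLifts f E :=
  fun _ _ _ _ _ _ h _ => (yon S).map_injective ((cancel_mono f).1 h)

theorem uniqLifts_of_comp {f : (yon S).obj V ⟶ W} {g : W ⟶ X} {E : Set (Points X)}
    (h : UniqLifts (f ≫ g) E) : UniqLifts f (Points.map g ⁻¹' E) := fun Ω _ _ str l₁ l₂ hl hx =>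
  h Ω str l₁ l₂ (by rw [← Category.assoc, hl, Category.assoc]) (by
    rw [← Category.assoc, Points.ofPt_eq_map_ofScheme, Points.map_comp, ← Points.ofPt_eq_map_ofScheme]
    exact hx)

/-- An etale chart with unique geometric lifts over the complement of an open subspace gives an elementary
distinguished square. -/
theorem isElemDistSq_of_uniqLifts (hW : IsAlgSpace W) {j : U ⟶ W} (hj : RepWith @IsOpenImmersion j)
    {f : (yon S).obj V ⟶ W} (hf : RepWith @Etale f)
    (hcov : (Set.range (Points.map j))ᶜ ⊆ Set.range (Points.ofPt f))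
    (huniq : UniqLifts f (Set.range (Points.map j))ᶜ) : IsElemDistSq j f := by
  obtain ⟨T, i, hi⟩ := AlgSpDec.exists_reduced_induced hW (isOpen_range_openImm hW hj).isClosed_compl
  have sq := IsPullback.of_hasPullback i f
  refine ⟨hj, isEtaleMor_of_repWith hf, T.obj, _, i, pullback.fst i f, pullback.snd i f, hi, sq, ?_⟩
  have hfe : RepWith @Etale (pullback.fst i f) := repWith_of_isPullback sq.flip hf
  have hfs : RepWith @Surjective (pullback.fst i f) := (repWith_surjective_iff hfe.rep).2 fun t => by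
    obtain ⟨v, hv⟩ := hcov (hi.2.1.subset ⟨t, rfl⟩)
    obtain ⟨z, hz, -⟩ := exists_point_of_isPullback sq (x := t) (y := Points.ofScheme V v)
      (by rw [← hv, Points.ofPt_eq_map_ofScheme])
    exact ⟨z, hz⟩
  refine (repWith_isomorphisms_iff _).1 ⟨hfe.rep, fun B A b fb p h => ?_⟩
  have : Etale p.left := hfe.property _ _ _ h
  have : Surjective p.left := hfs.property _ _ _ h
  show IsIso p.left
  obtain ⟨v, hv⟩ := (yon S).map_surjective (fb ≫ pullback.snd i f)
  have sqA : IsPullback ((yon S).map v) ((yon S).map p) f (b ≫ i) := hv ▸ h.paste_horiz sq.flip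
  refine AlgSpDM.isIso_of_etale_of_lifts_eq p.left fun Ω _ _ l₁ l₂ hl => ?_
  let str : Spec (CommRingCat.of Ω) ⟶ S := l₁ ≫ A.hom
  let L₁ : Over.mk str ⟶ A := Over.homMk l₁ rfl
  let L₂ : Over.mk str ⟶ A := Over.homMk l₂ (by
    show l₂ ≫ A.hom = l₁ ≫ A.hom
    rw [← Over.w p, ← Category.assoc, ← hl, Category.assoc])
  have hL : L₁ ≫ p = L₂ ≫ p := Over.OverMorphism.ext hl
  have e : ∀ L : Over.mk str ⟶ A, (yon S).map (L ≫ v) ≫ f = ((yon S).map (L ≫ p) ≫ b) ≫ i := fun L => by
    rw [(yon S).map_comp, Category.assoc, sqA.w, ← Category.assoc, ← (yon S).map_comp, Category.assoc]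
  have hv' : L₁ ≫ v = L₂ ≫ v := huniq Ω str _ _ (by rw [e, e, hL]) (by
    rw [e, Points.ofPt_eq_map_ofScheme, Points.map_comp]
    exact hi.2.1.subset ⟨_, rfl⟩)
  exact congrArg Over.Hom.left ((yon S).map_injective (sqA.hom_ext
    (by rw [← (yon S).map_comp, ← (yon S).map_comp, hv'])
    (by rw [← (yon S).map_comp, ← (yon S).map_comp, hL])) : L₁ = L₂)

theorem uniqLifts_of_isIso_pullback {T : Sp S} {E : Set (Points W)} {i : T ⟶ W} (hi : IsRedInduced E i)
    {f : (yon S).obj V ⟶ W} [IsIso (pullback.fst i f)] : UniqLifts f E := by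
  intro Ω _ _ str l₁ l₂ hl hx
  have : IsReduced (Over.mk str).left := inferInstanceAs (IsReduced (Spec (CommRingCat.of Ω)))
  obtain ⟨τ, hτ⟩ := AlgSpDec.exists_factor_reduced isReducedSp_yon ((yon S).map l₁ ≫ f) hi.1 (by
    rw [range_map_yon, hi.2.1]
    rintro _ ⟨k, rfl⟩
    rwa [@Subsingleton.elim (PrimeSpectrum Ω) inferInstance k (IsLocalRing.closedPoint Ω)])
  have h : pullback.lift τ ((yon S).map l₁) hτ = pullback.lift τ ((yon S).map l₂) (hτ.trans hl) := by
    rw [← cancel_mono (pullback.fst i f), pullback.lift_fst, pullback.lift_fst]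
  apply (yon S).map_injective
  rw [← pullback.lift_snd τ ((yon S).map l₁) hτ, h, pullback.lift_snd]

/-- Induction along the compact opens of a quasi-compact quasi-separated space: each step adjoins the image
of an affine etale chart having unique geometric lifts over what is adjoined. -/
theorem open_induction [QuasiSeparatedSpace ↥S] (X : Space S) (hqc : IsQuasiCompactSp X.obj)
    (hqs : IsQuasiSeparatedSp X.obj) (Φ : Set (Points X.obj) → Prop) (W₀ : Set (Points X.obj))
    (hW₀o : IsOpen W₀) (hW₀c : IsCompact W₀) (h0 : Φ W₀)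
    (step : ∀ O O' : Set (Points X.obj), IsOpen O → IsCompact O → IsOpen O' → IsCompact O' → W₀ ⊆ O →
      ∀ (V : Over S) [IsAffine V.left] (f : (yon S).obj V ⟶ X.obj), RepWith @Etale f →
        O ∪ Set.range (Points.ofPt f) = O' → UniqLifts f (O' \ O) → Φ O → Φ O') :
    Φ Set.univ := by
  classical
  obtain ⟨U₀, a, hU₀, ha, has⟩ := AlgSpDM.exists_affine_chart hqc
  have hq : RepWith @QuasiCompact a := AlgSpDM.repWith_quasiCompact_of_qs hqs ha.rep
  obtain ⟨n, hn⟩ := AlgSpDM.exists_bound_hasLifts ha hq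
  obtain ⟨Uo, j, k, T, i, hj, hk, hiso, hi, hr, hT, hV⟩ := AlgSpDM.exists_filtration X a ha has
  let L : ℕ → Set (Points X.obj) := fun p => {x | AlgSpDM.HasLifts a p x}
  have hLo : ∀ p, IsOpen (L p) := fun p => (congrArg IsOpen (hr p)).mp (isOpen_range_openImm X.property (hj p))
  have hchart : ∀ p, 1 ≤ p → ∃ (V : Over S) (g : (yon S).obj V ⟶ X.obj), CompactSpace ↥V.left ∧
      RepWith @Etale g ∧ Set.range (Points.ofPt g) = L p ∧ UniqLifts g (L p \ L (p + 1)) := fun p hp => by
    obtain ⟨V, f, -, hc, hfe, hfs, hiso'⟩ := hV p hp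
    have := mono_of_openImm (hj p)
    have hg : RepWith @Etale (f ≫ (j p).hom) :=
      repWith_comp hfe (repWith_mono (fun _ _ g (_ : IsOpenImmersion g) => inferInstanceAs (Etale g)) _ (hj p))
    refine ⟨V, f ≫ (j p).hom, hc hq, hg, ?_, fun Ω _ _ str l₁ l₂ hl hx => ?_⟩
    · rw [← range_map_yon, show Points.map (f ≫ (j p).hom) = Points.map (j p).hom ∘ Points.map f from
        funext (Points.map_comp _ _), (surjective_map_of_repWith hfs).range_comp]
      exact hr p
    · have : IsIso (pullback.fst (i p).hom f) := hiso' _ _ _ (IsPullback.of_hasPullback _ _)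
      rw [← Category.assoc, ← Category.assoc, cancel_mono] at hl
      refine uniqLifts_of_isIso_pullback (hi p) Ω str l₁ l₂ hl ?_
      rw [← (hi p).2.1]
      rw [← Category.assoc, Points.ofPt_eq_map_ofScheme, Points.map_comp, ← Points.ofPt_eq_map_ofScheme] at hx
      obtain ⟨t, ht⟩ := (hT p).symm.subset hx
      exact ⟨t, injective_points_map_of_mono (j p).hom ((Points.map_comp (i p).hom (j p).hom t).symm.trans ht)⟩
  have hLc : ∀ p, 1 ≤ p → IsCompact (L p) := fun p hp => by
    obtain ⟨V, g, hc, -, hg, -⟩ := hchart p hp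
    rw [← hg]
    exact isCompact_range (Points.continuous_ofPt g)
  have main : ∀ m p, 1 ≤ p → p + m = n + 1 → Φ (W₀ ∪ L p) := by
    intro m
    induction m with
    | zero =>
      intro p _ hpm
      rw [show L p = ∅ from Set.eq_empty_of_forall_notMem (by rw [show p = n + 1 by omega]; exact hn), Set.union_empty]
      exact h0
    | succ m ih =>
      intro p hp hpm
      have hΦ := ih (p + 1) (by omega) (by omega)
      have hsub : L (p + 1) ⊆ L p := fun x hx => hx.of_succ
      obtain ⟨V, g, hc, hg, hgr, huniq⟩ := hchart p hp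
      obtain ⟨s, hs⟩ := (isCompact_univ (X := ↥V.left)).elim_finite_subcover
        (fun K : V.left.affineOpens => (K.1 : Set V.left)) (fun K => K.1.2) fun x _ => by
          obtain ⟨K, hK, hx, -⟩ := TopologicalSpace.Opens.isBasis_iff_nbhd.1 V.left.isBasis_affineOpens
            (TopologicalSpace.Opens.mem_top x)
          exact Set.mem_iUnion.2 ⟨⟨K, hK⟩, hx⟩
      let O : Finset V.left.affineOpens → Set (Points X.obj) := fun s =>
        W₀ ∪ L (p + 1) ∪ ⋃ K ∈ s, Points.ofPt g '' (K.1 : Set V.left)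
      have key : ∀ s, IsOpen (O s) ∧ IsCompact (O s) ∧ Φ (O s) := by
        intro s
        induction s using Finset.induction with
        | empty =>
          have : O ∅ = W₀ ∪ L (p + 1) := by simp [O]
          rw [this]
          exact ⟨hW₀o.union (hLo _), hW₀c.union (hLc _ (by omega)), hΦ⟩
        | @insert K s _ ihs =>
          obtain ⟨ho, hc', hΦ'⟩ := ihs
          let f : (yon S).obj (opOver K.1) ⟶ X.obj := (yon S).map (opι K.1) ≫ g
          have hfe : RepWith @Etale f :=
            repWith_comp ((repWith_yon_map_iff _ _).2 (inferInstanceAs (Etale K.1.ι))) hg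
          have hfr : Set.range (Points.ofPt f) = Points.ofPt g '' (K.1 : Set V.left) := by
            have : Points.ofPt f = Points.ofPt g ∘ K.1.ι := funext fun v => ofPt_comp (opι K.1) g v
            rw [this, Set.range_comp, Scheme.Opens.range_ι]
          have hins : O (insert K s) = O s ∪ Set.range (Points.ofPt f) := by
            simp only [O, Finset.set_biUnion_insert, hfr]
            ac_rfl
          have hfo : IsOpen (Set.range (Points.ofPt f)) := (isOpenMap_ofPt hfe).isOpen_range
          have : IsAffine (opOver K.1).left := K.2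
          have hfc : IsCompact (Set.range (Points.ofPt f)) := isCompact_range (Points.continuous_ofPt f)
          rw [hins]
          refine ⟨ho.union hfo, hc'.union hfc, step _ _ ho hc' (ho.union hfo) (hc'.union hfc)
            (fun x hx => .inl (.inl hx)) _ f hfe rfl (fun Ω _ _ str l₁ l₂ hl hx => ?_) hΦ'⟩
          have hx' : Points.ofPt ((yon S).map l₁ ≫ f) (IsLocalRing.closedPoint Ω) ∈ L p \ L (p + 1) := by
            obtain ⟨h1 | h1, h2⟩ := hx
            · exact absurd h1 h2
            · refine ⟨?_, fun h => h2 (.inl (.inr h))⟩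
              rw [hfr] at h1
              obtain ⟨v, -, hv⟩ := h1
              exact hgr ▸ ⟨v, hv⟩
          refine Over.OverMorphism.ext ((cancel_mono K.1.ι).1 ?_)
          exact congrArg Over.Hom.left (huniq Ω str (l₁ ≫ opι K.1) (l₂ ≫ opι K.1)
            (by simpa [f] using hl) (by simpa [f] using hx'))
      have : O s = W₀ ∪ L p := by
        have h1 : ⋃ K ∈ s, Points.ofPt g '' (K.1 : Set V.left) = L p := by
          rw [← Set.image_iUnion₂, Set.univ_subset_iff.1 hs, Set.image_univ, hgr]
        show W₀ ∪ L (p + 1) ∪ _ = _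
        rw [h1, Set.union_assoc, Set.union_eq_right.2 hsub]
      exact this ▸ (key s).2.2
  have h1 : L 1 = Set.univ := Set.eq_univ_of_forall (AlgSpDM.hasLifts_one_of_isIso hiso (hr 1))
  have := main n 1 le_rfl (by omega)
  rwa [h1, Set.union_univ] at this

/-- Enlarging an open subspace by elementary distinguished squares. -/
theorem enlarge [QuasiSeparatedSpace ↥S] (X : Space S) (hqc : IsQuasiCompactSp X.obj)
    (hqs : IsQuasiSeparatedSp X.obj) (P : ∀ U : Space S, (U ⟶ X) → Prop) (W : Space S) (jW : W ⟶ X)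
    (hjW : RepWith @IsOpenImmersion jW.hom) (hWc : IsQuasiCompactSp W.obj) (h1 : P W jW)
    (h2 : ∀ (W₁ W₂ V : Space S) (j₁ : W₁ ⟶ X) (j₂ : W₂ ⟶ X) (k : W₁ ⟶ W₂) (m : W ⟶ W₁) (f : V ⟶ W₂),
      RepWith @IsOpenImmersion j₁.hom → RepWith @IsOpenImmersion j₂.hom →
      k ≫ j₂ = j₁ → m ≫ j₁ = jW → IsQuasiCompactSp W₁.obj → IsQuasiCompactSp W₂.obj →
      (∃ T : Over S, IsAffine T.left ∧ Nonempty ((yon S).obj T ≅ V.obj)) →
      IsElemDistSq k.hom f.hom → P W₁ j₁ → P W₂ j₂) :
    P X (𝟙 X) := by
  -- one step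
  have hstep : ∀ (W₁ : Space S) (j₁ : W₁ ⟶ X) (m : W ⟶ W₁), RepWith @IsOpenImmersion j₁.hom → m ≫ j₁ = jW →
      IsQuasiCompactSp W₁.obj → P W₁ j₁ → ∀ (W₂ : Space S) (j₂ : W₂ ⟶ X), RepWith @IsOpenImmersion j₂.hom →
      IsQuasiCompactSp W₂.obj → ∀ (T : Over S) [IsAffine T.left] (g : (yon S).obj T ⟶ X.obj), RepWith @Etale g →
      Set.range (Points.map j₁.hom) ∪ Set.range (Points.ofPt g) = Set.range (Points.map j₂.hom) →
      UniqLifts g (Set.range (Points.map j₂.hom) \ Set.range (Points.map j₁.hom)) → P W₂ j₂ := by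
    intro W₁ j₁ m hj₁ hm hW₁ hP W₂ j₂ hj₂ hW₂ T _ g hg hu huniq
    have := mono_of_openImm hj₂
    have hinj := (isEmbedding_map_openImm X.property hj₂).injective
    obtain ⟨k, hk⟩ := exists_lift_openImmersion W₁.property W₂.property X.property hj₂ j₁.hom
      (hu ▸ Set.subset_union_left)
    obtain ⟨f, hf⟩ := exists_lift_openImmersion (IsAlgSpace.yon_obj T) W₂.property X.property hj₂ g
      (by rw [range_map_yon, ← hu]; exact Set.subset_union_right)
    have hk' : RepWith @IsOpenImmersion k := repWith_of_comp_mono j₂.hom (hk.symm ▸ hj₁)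
    have hf' : RepWith @Etale f := repWith_of_comp_mono j₂.hom (hf.symm ▸ hg)
    have hcompl : ∀ x ∉ Set.range (Points.map k), Points.map j₂.hom x ∈
        Set.range (Points.map j₂.hom) \ Set.range (Points.map j₁.hom) := fun x hx => by
      refine ⟨⟨x, rfl⟩, ?_⟩
      rintro ⟨y, hy⟩
      refine hx ⟨y, hinj ?_⟩
      rw [← Points.map_comp, hk, hy]
    refine h2 W₁ W₂ ((ofScheme S).obj T) j₁ j₂ (ObjectProperty.homMk k) m (ObjectProperty.homMk f) hj₁ hj₂
      (ObjectProperty.hom_ext _ hk) hm hW₁ hW₂ ⟨T, inferInstance, ⟨Iso.refl _⟩⟩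
      (isElemDistSq_of_uniqLifts W₂.property hk' hf' (fun x hx => ?_) ?_) hP
    · obtain ⟨h1, h2⟩ := hcompl x hx
      obtain ⟨v, hv⟩ := (hu.symm.subset h1).resolve_left h2
      exact ⟨v, hinj ((Points.map_ofPt _ _ _).trans ((congrArg (fun φ => Points.ofPt φ v) hf).trans hv))⟩
    · intro Ω _ _ str l₁ l₂ hl hx
      exact uniqLifts_of_comp (hf.symm ▸ huniq) Ω str l₁ l₂ hl (hcompl _ hx)
  obtain ⟨U, jU, m, hjU, hr, hm, hPU⟩ := open_induction X hqc hqs
    (fun O => ∃ (U : Space S) (jU : U ⟶ X) (m : W ⟶ U),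
      RepWith @IsOpenImmersion jU.hom ∧ Set.range (Points.map jU.hom) = O ∧ m ≫ jU = jW ∧ P U jU)
    (Set.range (Points.map jW.hom)) (isOpen_range_openImm X.property hjW) (isCompact_range_of_qc hWc _)
    ⟨W, jW, 𝟙 W, hjW, rfl, Category.id_comp _, h1⟩ (by
      intro O O' _ hOc hO' hO'c hWO T _ g hg hu huniq hΦ
      obtain ⟨U, jU, m, hjU, rfl, hm, hPU⟩ := hΦ
      obtain ⟨U', jU', hA, hjU', hr'⟩ := exists_open_subspace X.property hO'
      obtain ⟨m', hm'⟩ := exists_lift_openImmersion W.property hA X.property hjU' jW.hom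
        (by rw [hr', ← hu]; exact hWO.trans Set.subset_union_left)
      refine ⟨⟨U', hA⟩, ObjectProperty.homMk jU', ObjectProperty.homMk m', hjU', hr', ObjectProperty.hom_ext _ hm', ?_⟩
      exact hstep U jU m hjU hm (isQuasiCompactSp_of_isCompact_range U.property X.property hjU hOc) hPU
        ⟨U', hA⟩ (ObjectProperty.homMk jU') hjU'
        (isQuasiCompactSp_of_isCompact_range hA X.property hjU' (hr'.symm ▸ hO'c)) T g hg
        (hu.trans hr'.symm) (hr'.symm ▸ huniq))
  -- from an open subspace with all the points to the space itself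
  obtain ⟨T, a, hT, ha, has⟩ := AlgSpDM.exists_affine_chart hqc
  have hid : RepWith @IsOpenImmersion (𝟙 X : X ⟶ X).hom := repWith_id_openImmersion _
  refine hstep U jU m hjU hm (isQuasiCompactSp_of_isCompact_range U.property X.property hjU
    (hr.symm ▸ (compactSpace_points hqc).isCompact_univ)) hPU X (𝟙 X) hid hqc T a ha ?_ fun _ _ _ _ _ _ _ hx => ?_
  · rw [hr, Set.univ_union]
    refine (Set.eq_univ_of_forall fun x => ?_).symm
    exact ⟨x, Points.map_id x⟩
  · exact absurd (hr.symm.subset (Set.mem_univ _)) hx.2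

end Groth.Agent.AlgSpInd
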