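import Mathlib.AlgebraicGeometry.AffineScheme
import Groth.Agent.AlgSpInd.Basic
import Groth.Agent.AlgSpMor.GluePushout
import Groth.Prelude.Def_AlgSpEt

/-!
# The induction principle on the site of spaces etale over a quasi-compact quasi-separated space
-/

set_option autoImplicit false
set_option backward.isDefEq.respectTransparency false
set_option backward.isDefEq.respectTransparency.types false

universe u

open CategoryTheory CategoryTheory.Limits AlgebraicGeometry AlgSp Groth.Agent.AlgSpLib Groth.Agent.AlgSpPts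

namespace Groth.Agent.AlgSpInd

open Groth.Agent.AlgSpMor (opOver opι)
open Groth.Agent.LimPresLib (repWith_of_comp_mono)
open Groth.Agent.AlgSpDec (mono_of_openImm isOpen_range_openImm injective_points_map_of_mono)

variable {S : Scheme.{u}} {X : Space S}

/-- An open immersion of objects etale over `X`. -/
abbrev IsOpenSub {U W : EtSpOver X} (j : U ⟶ W) : Prop := RepWith @IsOpenImmersion j.hom.left.hom

/-- The points of the image of a morphism of objects etale over `X`. -/
abbrev ptsRange {U W : EtSpOver X} (j : U ⟶ W) : Set (Points W.obj.left.obj) := Set.range (Points.map j.hom.left.hom)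

/-- The object over `X` of a space mapping etale to an object. -/
noncomputable def objOf (W : EtSpOver X) (U : Space S) (f : U.obj ⟶ W.obj.left.obj) (hf : IsEtaleMor f) : EtSpOver X :=
  ⟨Over.mk (Y := U) (ObjectProperty.homMk f ≫ W.obj.hom),
    isEtaleMor_comp U.property W.obj.left.property X.property hf W.property⟩

/-- Its map to the object. -/
noncomputable def objOfHom (W : EtSpOver X) (U : Space S) (f : U.obj ⟶ W.obj.left.obj) (hf : IsEtaleMor f) :
    objOf W U f hf ⟶ W :=
  ObjectProperty.homMk (Over.homMk (ObjectProperty.homMk f) rfl)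

theorem objOfHom_hom (W : EtSpOver X) (U : Space S) (f : U.obj ⟶ W.obj.left.obj) (hf : IsEtaleMor f) :
    (objOfHom W U f hf).hom.left.hom = f := rfl

/-- Every open set of points is the range of an open subobject. -/
theorem exists_sub (W : EtSpOver X) {O : Set (Points W.obj.left.obj)} (hO : IsOpen O) :
    ∃ (U : EtSpOver X) (j : U ⟶ W), IsOpenSub j ∧ ptsRange j = O := by
  obtain ⟨U, j, hU, hj, hr⟩ := exists_open_subspace W.obj.left.property hO
  exact ⟨_, objOfHom W ⟨U, hU⟩ j (isEtaleMor_of_repWith_isOpenImmersion hj), hj, hr⟩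

/-- Open subobjects are ordered by their sets of points. -/
theorem exists_subHom {U U' W : EtSpOver X} (j : U ⟶ W) (j' : U' ⟶ W) (hj : IsOpenSub j) (hj' : IsOpenSub j')
    (h : ptsRange j ⊆ ptsRange j') :
    ∃ k : U ⟶ U', k ≫ j' = j ∧ IsOpenSub k ∧ Points.map j'.hom.left.hom '' ptsRange k = ptsRange j := by
  obtain ⟨k, hk⟩ := exists_lift_openImmersion U.obj.left.property U'.obj.left.property W.obj.left.property hj'
    j.hom.left.hom h
  refine ⟨ObjectProperty.homMk (Over.homMk (ObjectProperty.homMk k) ?_), ?_, ?_, ?_⟩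
  · rw [← Over.w j'.hom, ← Category.assoc]
    rw [show (ObjectProperty.homMk k : U.obj.left ⟶ U'.obj.left) ≫ j'.hom.left = j.hom.left from
      ObjectProperty.hom_ext _ hk]
    exact Over.w j.hom
  · ext : 1
    exact Over.OverMorphism.ext (ObjectProperty.hom_ext _ hk)
  · have := mono_of_openImm hj'
    exact repWith_of_comp_mono (f := k) j'.hom.left.hom (hk.symm ▸ hj)
  · show Points.map j'.hom.left.hom '' Set.range (Points.map k) = _
    rw [← Set.range_comp, ← show Points.map (k ≫ j'.hom.left.hom) = Points.map j'.hom.left.hom ∘ Points.map k from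
      funext (Points.map_comp _ _), hk]

theorem isOpenSub_comp {A B C : EtSpOver X} {j : A ⟶ B} {k : B ⟶ C} (hj : IsOpenSub j) (hk : IsOpenSub k) :
    IsOpenSub (j ≫ k) := repWith_comp hj hk

theorem ptsRange_comp {A B C : EtSpOver X} (j : A ⟶ B) (k : B ⟶ C) :
    ptsRange (j ≫ k) = Points.map k.hom.left.hom '' ptsRange j := by
  show Set.range (Points.map (j.hom.left.hom ≫ k.hom.left.hom)) = _
  rw [← Set.range_comp]
  exact congrArg Set.range (funext (Points.map_comp _ _))

theorem isCompact_preimage [QuasiSeparatedSpace ↥S] {W U V : EtSpOver X} (f : V ⟶ W) (j : U ⟶ W)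
    (hV : IsQuasiCompactSp V.obj.left.obj) (hW : IsQuasiSeparatedSp W.obj.left.obj)
    (hU : IsQuasiCompactSp U.obj.left.obj) : IsCompact (Points.map f.hom.left.hom ⁻¹' ptsRange j) := by
  have sq := IsPullback.of_hasPullback f.hom.left.hom j.hom.left.hom
  have hP := isQuasiCompactMor_of_qc_qs V.obj.left.property W.obj.left.property hV hW f.hom.left.hom
    U.obj.left.property hU _ _ _ sq
  have : Points.map f.hom.left.hom ⁻¹' ptsRange j =
      Set.range (Points.map (pullback.fst f.hom.left.hom j.hom.left.hom)) := by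
    refine Set.Subset.antisymm ?_ ?_
    · rintro x ⟨y, hy⟩
      obtain ⟨z, hz, -⟩ := exists_point_of_isPullback sq hy.symm
      exact ⟨z, hz⟩
    · rintro _ ⟨z, rfl⟩
      exact ⟨_, (Points.map_comp _ _ z).symm.trans
        ((congrArg (fun φ => Points.map φ z) sq.w.symm).trans (Points.map_comp _ _ z))⟩
  rw [this]
  exact isCompact_range_of_qc hP _

/-- The squares step of the induction. -/
def Step (B P : EtSpOver X → Prop) : Prop :=
  ∀ (W U V UV : EtSpOver X) (j : U ⟶ W) (f : V ⟶ W) (p : UV ⟶ U) (q : UV ⟶ V),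
    B W → IsQuasiCompactSp U.obj.left.obj →
    (∃ T : Over S, IsAffine T.left ∧ Nonempty ((yon S).obj T ≅ V.obj.left.obj)) →
    IsElemDistSq j.hom.left.hom f.hom.left.hom →
    IsPullback p.hom.left.hom q.hom.left.hom j.hom.left.hom f.hom.left.hom →
    P U → P V → P UV → P W

/-- The object of a scheme etale over an object. -/
noncomputable abbrev objYon (W : EtSpOver X) (T : Over S) (f : (yon S).obj T ⟶ W.obj.left.obj)
    (hf : RepWith @Etale f) : EtSpOver X := objOf W ((ofScheme S).obj T) f (isEtaleMor_of_repWith hf)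

theorem exists_pullback_sub {W U V : EtSpOver X} (j : U ⟶ W) (hj : IsOpenSub j) (f : V ⟶ W) :
    ∃ (UV : EtSpOver X) (p : UV ⟶ U) (q : UV ⟶ V),
      IsPullback p.hom.left.hom q.hom.left.hom j.hom.left.hom f.hom.left.hom ∧ IsOpenSub q ∧
      ptsRange q = Points.map f.hom.left.hom ⁻¹' ptsRange j := by
  have sq := IsPullback.of_hasPullback j.hom.left.hom f.hom.left.hom
  have hA := isAlgSpace_pullback U.obj.left.property V.obj.left.property W.obj.left.property
    j.hom.left.hom f.hom.left.hom
  have hq : RepWith @IsOpenImmersion (pullback.snd j.hom.left.hom f.hom.left.hom) := repWith_of_isPullback sq hj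
  let UV := objOf V ⟨_, hA⟩ (pullback.snd j.hom.left.hom f.hom.left.hom) (isEtaleMor_of_repWith_isOpenImmersion hq)
  refine ⟨UV, ObjectProperty.homMk (Over.homMk (ObjectProperty.homMk (pullback.fst j.hom.left.hom f.hom.left.hom)) ?_),
    objOfHom V ⟨_, hA⟩ _ _, sq, hq, ?_⟩
  · refine ObjectProperty.hom_ext _ ?_
    show pullback.fst j.hom.left.hom f.hom.left.hom ≫ U.obj.hom.hom =
      pullback.snd j.hom.left.hom f.hom.left.hom ≫ V.obj.hom.hom
    rw [← Over.w j.hom, ← Over.w f.hom]
    show pullback.fst _ _ ≫ j.hom.left.hom ≫ W.obj.hom.hom = pullback.snd _ _ ≫ f.hom.left.hom ≫ W.obj.hom.hom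
    rw [← Category.assoc, sq.w, Category.assoc]
  · refine Set.Subset.antisymm ?_ ?_
    · rintro _ ⟨z, rfl⟩
      exact ⟨_, (Points.map_comp _ _ z).symm.trans
        ((congrArg (fun φ => Points.map φ z) sq.w).trans (Points.map_comp _ _ z))⟩
    · rintro x ⟨y, hy⟩
      obtain ⟨z, -, hz⟩ := exists_point_of_isPullback sq hy
      exact ⟨z, hz⟩

variable {B P : EtSpOver X → Prop}

/-- One square: from an open subspace to the space. -/
theorem step_of_cover (h : Step B P) (haff : ∀ (V : EtSpOver X) (T : Over S), IsAffine T.left →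
      Nonempty ((yon S).obj T ≅ V.obj.left.obj) → B V ∧ P V)
    {W U : EtSpOver X} (hW : B W) (j : U ⟶ W) (hj : IsOpenSub j) (hU : IsQuasiCompactSp U.obj.left.obj) (hPU : P U)
    {T : Over S} [IsAffine T.left] (f : (yon S).obj T ⟶ W.obj.left.obj) (hf : RepWith @Etale f)
    (hcov : (ptsRange j)ᶜ ⊆ Set.range (Points.ofPt f)) (huniq : UniqLifts f (ptsRange j)ᶜ)
    (hP2 : ∀ (Y : EtSpOver X) (q : Y ⟶ objYon W T f hf), IsOpenSub q →
      ptsRange q = Points.map f ⁻¹' ptsRange j → P Y) : P W := by
  let V := objYon W T f hf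
  let φ : V ⟶ W := objOfHom W ((ofScheme S).obj T) f (isEtaleMor_of_repWith hf)
  obtain ⟨UV, p, q, sq, hq, hr⟩ := exists_pullback_sub j hj φ
  exact h W U V UV j φ p q hW hU ⟨T, inferInstance, ⟨Iso.refl _⟩⟩
    (isElemDistSq_of_uniqLifts W.obj.left.property hj hf hcov huniq) sq hPU
    (haff V T inferInstance ⟨Iso.refl _⟩).2 (hP2 UV q hq hr)

theorem prop_of_empty (haff : ∀ (V : EtSpOver X) (T : Over S), IsAffine T.left →
      Nonempty ((yon S).obj T ≅ V.obj.left.obj) → B V ∧ P V)
    (U : EtSpOver X) (hU : IsEmpty (Points U.obj.left.obj)) : P U := by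
  have : CompactSpace (Points U.obj.left.obj) := inferInstance
  obtain ⟨T, a, hT, -, -⟩ := AlgSpDM.exists_affine_chart (isQuasiCompactSp_of_compactSpace U.obj.left.property)
  have := AlgSpMor.isIso_of_isEmpty_points hU a
  exact (haff U T hT ⟨asIso a⟩).2

/-- The points of a union of basic opens. -/
def bset (T : Over S) {n : ℕ} (g : Fin n → Γ(T.left, ⊤)) : Set (Points ((yon S).obj T)) :=
  Points.ofScheme T '' ⋃ i, (T.left.basicOpen (g i) : Set T.left)

theorem isOpen_bset (T : Over S) {n : ℕ} (g : Fin n → Γ(T.left, ⊤)) : IsOpen (bset T g) :=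
  (Points.schemeHomeo T).isOpenMap _ (isOpen_iUnion fun i => (T.left.basicOpen (g i)).2)

theorem isCompact_bset (T : Over S) [IsAffine T.left] {n : ℕ} (g : Fin n → Γ(T.left, ⊤)) :
    IsCompact (bset T g) :=
  (isCompact_iUnion fun i => ((isAffineOpen_top T.left).basicOpen (g i)).isCompact).image
    (Points.schemeHomeo T).continuous

theorem prop_of_bset [QuasiSeparatedSpace ↥S] (h : Step B P)
    (hB : ∀ (W U : EtSpOver X) (j : U ⟶ W), B W → IsOpenSub j → IsQuasiCompactSp U.obj.left.obj → B U)
    (haff : ∀ (V : EtSpOver X) (T : Over S), IsAffine T.left →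
      Nonempty ((yon S).obj T ≅ V.obj.left.obj) → B V ∧ P V) :
    ∀ (n : ℕ) (W : EtSpOver X) (T : Over S) [IsAffine T.left] (f : (yon S).obj T ⟶ W.obj.left.obj)
      (hf : RepWith @Etale f) (g : Fin n → Γ(T.left, ⊤)) (U : EtSpOver X) (j : U ⟶ objYon W T f hf),
      IsOpenSub j → ptsRange j = bset T g → P U := by
  intro n
  induction n with
  | zero =>
    intro W T _ f hf g U j hj hr
    refine prop_of_empty haff U ⟨fun x => ?_⟩
    have : Points.map j.hom.left.hom x ∈ bset T g := hr.subset ⟨x, rfl⟩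
    simp [bset] at this
  | succ n ih =>
    intro W T _ f hf g U j hj hr
    let Vb : EtSpOver X := objYon W T f hf
    have hinj := (isEmbedding_map_openImm Vb.obj.left.property hj).injective
    have hmono := mono_of_openImm hj
    -- the first basic opens
    let O₁ := bset T (g ∘ Fin.castSucc)
    have hO₁ : O₁ ⊆ bset T g := Set.image_mono (Set.iUnion_subset fun i => Set.subset_iUnion_of_subset i.castSucc subset_rfl)
    obtain ⟨U₁, j₁, hj₁, hr₁⟩ := exists_sub Vb (isOpen_bset T (g ∘ Fin.castSucc))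
    obtain ⟨k, -, hk, hkr⟩ := exists_subHom j₁ j hj₁ hj (by rw [hr₁, hr]; exact hO₁)
    have hU₁ : IsQuasiCompactSp U₁.obj.left.obj :=
      isQuasiCompactSp_of_isCompact_range U₁.obj.left.property Vb.obj.left.property hj₁ (by
        show IsCompact (ptsRange j₁)
        rw [hr₁]; exact isCompact_bset T _)
    have hU : IsQuasiCompactSp U.obj.left.obj :=
      isQuasiCompactSp_of_isCompact_range U.obj.left.property Vb.obj.left.property hj (by
        show IsCompact (ptsRange j)
        rw [hr]; exact isCompact_bset T _)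
    -- the last basic open
    let K := T.left.basicOpen (g (Fin.last n))
    have : IsAffine (opOver K).left := (isAffineOpen_top T.left).basicOpen _
    have hι : RepWith @IsOpenImmersion ((yon S).map (opι K)) :=
      (repWith_yon_map_iff _ _).2 (inferInstanceAs (IsOpenImmersion K.ι))
    have hKr : Set.range (Points.ofPt ((yon S).map (opι K))) = Points.ofScheme T '' (K : Set T.left) := by
      conv_lhs => rw [← Category.comp_id ((yon S).map (opι K))]
      have e : Points.ofPt ((yon S).map (opι K) ≫ 𝟙 _) = Points.ofScheme T ∘ K.ι := funext fun v =>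
        ((ofPt_comp (opι K) _ v).trans (Points.ofPt_eq_map_ofScheme (𝟙 _) _)).trans (Points.map_id _)
      rw [e, Set.range_comp, Scheme.Opens.range_ι]
    obtain ⟨f', hf'⟩ := exists_lift_openImmersion (IsAlgSpace.yon_obj _) U.obj.left.property Vb.obj.left.property hj
      ((yon S).map (opι K) : (yon S).obj (opOver K) ⟶ Vb.obj.left.obj) (by
        show _ ⊆ ptsRange j
        rw [hr, range_map_yon, hKr]
        exact Set.image_mono (Set.subset_iUnion_of_subset (Fin.last n) subset_rfl))
    have hf'o : RepWith @IsOpenImmersion f' := repWith_of_comp_mono j.hom.left.hom (hf'.symm ▸ hι)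
    have hf'e : RepWith @Etale f' :=
      repWith_mono (fun _ _ g (_ : IsOpenImmersion g) => inferInstanceAs (Etale g)) _ hf'o
    have := mono_of_openImm hf'o
    have hBU : B U := hB Vb U j (haff Vb T inferInstance ⟨Iso.refl _⟩).1 hj hU
    refine step_of_cover h haff hBU k hk hU₁ (ih W T f hf (g ∘ Fin.castSucc) U₁ j₁ hj₁ hr₁) f' hf'e ?_
      (uniqLifts_of_mono f' _) fun Y q hq hqr => ?_
    · intro x hx
      have h1 : Points.map j.hom.left.hom x ∈ bset T g := hr.subset ⟨x, rfl⟩
      obtain ⟨t, ht, e⟩ := h1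
      obtain ⟨i, hi⟩ := Set.mem_iUnion.1 ht
      cases i using Fin.lastCases with
      | last =>
        obtain ⟨v, hv⟩ := hKr.symm.subset ⟨t, hi, e⟩
        refine ⟨v, hinj ?_⟩
        rw [Points.map_ofPt, hf', hv]
      | cast i =>
        refine absurd ?_ hx
        have : Points.map j.hom.left.hom x ∈ Points.map j.hom.left.hom '' ptsRange k := by
          rw [hkr, hr₁]
          exact ⟨t, Set.mem_iUnion.2 ⟨i, hi⟩, e⟩
        obtain ⟨y, hy, e'⟩ := this
        exact hinj e' ▸ hy
    · let m : objYon U (opOver K) f' hf'e ⟶ U := objOfHom U ((ofScheme S).obj (opOver K)) f' _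
      refine ih W T f hf (fun i => g i.castSucc * g (Fin.last n)) Y (q ≫ m ≫ j)
        (isOpenSub_comp hq (isOpenSub_comp hf'o hj)) ?_
      rw [ptsRange_comp, hqr]
      show Points.map (f' ≫ j.hom.left.hom) '' _ = _
      refine Set.Subset.antisymm ?_ ?_
      · rintro _ ⟨y, hy, rfl⟩
        have h1 : Points.map (f' ≫ j.hom.left.hom) y ∈ bset T (g ∘ Fin.castSucc) := by
          rw [Points.map_comp, ← hr₁, ← hkr]
          exact ⟨_, hy, rfl⟩
        have h2 : Points.map (f' ≫ j.hom.left.hom) y ∈ Points.ofScheme T '' (K : Set T.left) := by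
          rw [hf', ← hKr, ← range_map_yon]
          exact ⟨y, rfl⟩
        obtain ⟨t, ht, e⟩ := h1
        obtain ⟨t', ht', e'⟩ := h2
        obtain rfl : t = t' := (Points.schemeHomeo T).injective (e.trans e'.symm)
        obtain ⟨i, hi⟩ := Set.mem_iUnion.1 ht
        exact ⟨t, Set.mem_iUnion.2 ⟨i, (T.left.basicOpen_mul _ _).symm ▸ ⟨hi, ht'⟩⟩, e⟩
      · rintro _ ⟨t, ht, rfl⟩
        obtain ⟨i, hi⟩ := Set.mem_iUnion.1 ht
        have hi' : t ∈ T.left.basicOpen (g i.castSucc) ⊓ K := T.left.basicOpen_mul _ _ ▸ hi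
        obtain ⟨v, hv⟩ := hKr.symm.subset ⟨t, hi'.2, rfl⟩
        refine ⟨Points.ofScheme _ v, ?_, ?_⟩
        · have : Points.map j.hom.left.hom (Points.map f' (Points.ofScheme _ v)) ∈
              Points.map j.hom.left.hom '' ptsRange k := by
            rw [hkr, hr₁, ← Points.map_comp, hf', ← Points.ofPt_eq_map_ofScheme, hv]
            exact ⟨t, Set.mem_iUnion.2 ⟨i, hi'.1⟩, rfl⟩
          obtain ⟨y, hy, e⟩ := this
          exact Set.mem_preimage.2 (hinj e ▸ hy)
        · rw [hf', ← Points.ofPt_eq_map_ofScheme, hv]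

/-- The induction principle for a family of objects. -/
theorem induction_family [QuasiSeparatedSpace ↥S] (h : Step B P)
    (hqcs : ∀ W, B W → IsQuasiCompactSp W.obj.left.obj ∧ IsQuasiSeparatedSp W.obj.left.obj)
    (hB : ∀ (W U : EtSpOver X) (j : U ⟶ W), B W → IsOpenSub j → IsQuasiCompactSp U.obj.left.obj → B U)
    (haff : ∀ (V : EtSpOver X) (T : Over S), IsAffine T.left →
      Nonempty ((yon S).obj T ≅ V.obj.left.obj) → B V ∧ P V)
    (W : EtSpOver X) (hW : B W) : P W := by
  obtain ⟨hqc, hqs⟩ := hqcs W hW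
  have := open_induction W.obj.left hqc hqs
    (fun O => ∀ (U : EtSpOver X) (j : U ⟶ W), IsOpenSub j → ptsRange j = O → P U) ∅ isOpen_empty isCompact_empty
    (fun U j _ hr => prop_of_empty haff U ⟨fun x => hr.subset ⟨x, rfl⟩⟩) ?_
  · exact this W (𝟙 W) (repWith_id_openImmersion _)
      (Set.eq_univ_of_forall fun x => ⟨x, Points.map_id x⟩)
  intro O O' hO hOc hO' hO'c _ T _ g hg hOO' huniq hΦ U' j' hj' hr'
  have hsub : O ⊆ O' := hOO' ▸ Set.subset_union_left
  obtain ⟨U, j, hj, hr⟩ := exists_sub W hO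
  obtain ⟨k, -, hk, hkr⟩ := exists_subHom j j' hj hj' (by rw [hr, hr']; exact hsub)
  have hU : IsQuasiCompactSp U.obj.left.obj :=
    isQuasiCompactSp_of_isCompact_range U.obj.left.property W.obj.left.property hj (by
      show IsCompact (ptsRange j)
      rw [hr]; exact hOc)
  have hU' : IsQuasiCompactSp U'.obj.left.obj :=
    isQuasiCompactSp_of_isCompact_range U'.obj.left.property W.obj.left.property hj' (by
      show IsCompact (ptsRange j')
      rw [hr']; exact hO'c)
  have hBU' : B U' := hB W U' j' hW hj' hU'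
  have hinj := (isEmbedding_map_openImm W.obj.left.property hj').injective
  obtain ⟨f, hf⟩ := exists_lift_openImmersion (IsAlgSpace.yon_obj T) U'.obj.left.property W.obj.left.property hj' g (by
    show _ ⊆ ptsRange j'
    rw [hr', range_map_yon, ← hOO']; exact Set.subset_union_right)
  have := mono_of_openImm hj'
  have hfe : RepWith @Etale f := repWith_of_comp_mono j'.hom.left.hom (hf.symm ▸ hg)
  have hcompl : (ptsRange k)ᶜ ⊆ Points.map j'.hom.left.hom ⁻¹' (O' \ O) := fun x hx => by
    refine ⟨hr'.subset ⟨x, rfl⟩, fun hxO => hx ?_⟩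
    rw [← hr, ← hkr] at hxO
    obtain ⟨y, hy, e⟩ := hxO
    exact hinj e ▸ hy
  refine step_of_cover h haff hBU' k hk hU (hΦ U j hj hr) f hfe (fun x hx => ?_) ?_ fun Y q hq hqr => ?_
  · obtain ⟨h1, h2⟩ := hcompl hx
    obtain ⟨v, hv⟩ := (hOO'.symm.subset h1).resolve_left h2
    exact ⟨v, hinj (by rw [Points.map_ofPt, hf, hv])⟩
  · intro Ω _ _ str l₁ l₂ hl hx
    exact uniqLifts_of_comp (hf.symm ▸ huniq) Ω str l₁ l₂ hl (hcompl hx)
  · have hc : IsCompact (Points.map f ⁻¹' ptsRange k) :=
      isCompact_preimage (objOfHom U' ((ofScheme S).obj T) f (isEtaleMor_of_repWith hfe)) k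
        (isQuasiCompactSp_yon T) (hqcs U' hBU').2 hU
    have ho : IsOpen (Points.map f ⁻¹' ptsRange k) :=
      (isOpen_range_openImm U'.obj.left.property hk).preimage (Points.continuous_map _)
    have hb : TopologicalSpace.IsTopologicalBasis
        (Set.range fun r : Γ(T.left, ⊤) => (T.left.basicOpen r : Set T.left)) := by
      have h0 := isBasis_basicOpen T.left
      rw [TopologicalSpace.Opens.IsBasis, ← Set.range_comp] at h0
      exact h0
    obtain ⟨s, hs, he⟩ := (isCompact_open_iff_eq_finite_iUnion_of_isTopologicalBasis _ hb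
      (fun r => ((isAffineOpen_top T.left).basicOpen r).isCompact) (Points.ofScheme T ⁻¹' (Points.map f ⁻¹' ptsRange k))).1
      ⟨(Points.schemeHomeo T).isCompact_preimage.2 hc, ho.preimage (Points.schemeHomeo T).continuous⟩
    obtain ⟨n, gs, -, rfl⟩ := hs.fin_param
    refine prop_of_bset h hB haff n U' T f hfe gs Y q hq ?_
    rw [hqr, bset, ← Set.biUnion_range (g := fun r => (T.left.basicOpen r : Set T.left)) (f := gs), ← he]
    exact (Set.image_preimage_eq _ (Points.schemeHomeo T).surjective).symm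

end Groth.Agent.AlgSpInd
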